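import Groth.Agent.FlatBasics.UnivHomeo
import Mathlib.AlgebraicGeometry.Morphisms.Etale
import Mathlib.AlgebraicGeometry.Morphisms.FlatMono
import Mathlib.AlgebraicGeometry.Morphisms.Integral
import Mathlib.CategoryTheory.Comma.Over.Pullback

/-!
# Topological invariance of étale morphisms: sections and morphisms
-/

set_option autoImplicit false
set_option backward.isDefEq.respectTransparency.types false

universe u

open CategoryTheory CategoryTheory.Limits AlgebraicGeometry

namespace Groth.Agent.TopInvHomeo

/-- A formally unramified universally injective morphism locally of finite type is a monomorphism. -/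
lemma mono_of_universallyInjective {X Y : Scheme.{u}} (f : X ⟶ Y) [FormallyUnramified f]
    [LocallyOfFiniteType f] [UniversallyInjective f] : Mono f := by
  have h : Surjective (pullback.diagonal f) := (UniversallyInjective.iff_diagonal f).mp ‹_›
  have : IsIso (pullback.diagonal f) := isIso_of_isOpenImmersion_of_opensRange_eq_top _
    (TopologicalSpace.Opens.ext (Set.range_eq_univ.mpr h.surj))
  exact (pullback.isIso_diagonal_iff f).mp this

variable {X' T T₀ : Scheme.{u}} (q : X' ⟶ T) [Etale q] (g : T₀ ⟶ T) [IsIntegralHom g]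
  [UniversallyInjective g] [Surjective g]

/-- Sections of étale morphisms extend uniquely along universal homeomorphisms. -/
theorem existsUnique_section (s₀ : T₀ ⟶ X') (h₀ : s₀ ≫ q = g) :
    ∃! t : T ⟶ X', t ≫ q = 𝟙 T ∧ g ≫ t = s₀ := by
  let j : pullback q g ⟶ X' := pullback.fst q g
  let σ : T₀ ⟶ pullback q g := pullback.lift s₀ (𝟙 _) (by rw [h₀, Category.id_comp])
  have hσ : σ ≫ pullback.snd q g = 𝟙 _ := pullback.lift_snd _ _ _
  have : Etale (σ ≫ pullback.snd q g) := by rw [hσ]; infer_instance
  have : Etale σ := Etale.of_comp σ (pullback.snd q g)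
  have : IsSplitMono σ := IsSplitMono.mk' ⟨_, hσ⟩
  have : IsOpenImmersion σ := IsOpenImmersion.of_flat_of_mono σ
  have hjσ : σ ≫ j = s₀ := pullback.lift_fst _ _ _
  have : IsIntegralHom j := MorphismProperty.pullback_fst _ _ inferInstance
  have : UniversallyInjective j := MorphismProperty.pullback_fst (P := @UniversallyInjective) _ _ inferInstance
  have : Surjective j := MorphismProperty.pullback_fst (P := @Surjective) _ _ inferInstance
  have hopen : IsOpenMap j := by
    intro V hV
    have : j '' V = (j '' Vᶜ)ᶜ := by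
      rw [Set.image_compl_eq ⟨j.injective, j.surjective⟩, compl_compl]
    rw [this]
    exact (j.isClosedMap _ hV.isClosed_compl).isOpen_compl
  let W : X'.Opens := ⟨Set.range s₀, by
    rw [← hjσ, show Set.range (σ ≫ j) = j '' Set.range σ by rw [← Set.range_comp]; rfl]
    exact hopen _ σ.isOpenEmbedding.isOpen_range⟩
  let s₁ : T₀ ⟶ W.toScheme := IsOpenImmersion.lift W.ι s₀ (by rw [Scheme.Opens.range_ι]; rfl)
  have hs₁ : s₁ ≫ W.ι = s₀ := IsOpenImmersion.lift_fac _ _ _
  let q' := W.ι ≫ q
  have hq' : s₁ ≫ q' = g := by rw [← Category.assoc, hs₁, h₀]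
  have : Surjective s₁ := ⟨fun w ↦ by
    obtain ⟨a, ha⟩ : W.ι w ∈ Set.range s₀ := w.2
    exact ⟨a, W.ι.isOpenEmbedding.injective (by rw [← Scheme.Hom.comp_apply, hs₁, ha])⟩⟩
  have : UniversallyInjective (s₁ ≫ q') := hq' ▸ ‹UniversallyInjective g›
  have : UniversallyInjective q' := FlatBasics.universallyInjective_of_comp_surjective s₁ q'
  have : Mono q' := mono_of_universallyInjective q'
  have : IsOpenImmersion q' := IsOpenImmersion.of_flat_of_mono q'
  have hrange : Set.range q' = Set.univ := Set.eq_univ_of_forall fun x ↦ by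
    obtain ⟨a, rfl⟩ := g.surjective x
    exact ⟨s₁ a, by rw [← Scheme.Hom.comp_apply, hq']⟩
  have : IsIso q' := isIso_of_isOpenImmersion_of_opensRange_eq_top _
    (TopologicalSpace.Opens.ext hrange)
  refine ⟨inv q' ≫ W.ι, ⟨by rw [Category.assoc]; exact IsIso.inv_hom_id q', ?_⟩, ?_⟩
  · rw [← hs₁, ← Category.assoc]
    congr 1
    rw [IsIso.comp_inv_eq, hq']
  · rintro t ⟨ht, hgt⟩
    have hW : Set.range t ⊆ Set.range W.ι := by
      rintro _ ⟨x, rfl⟩
      obtain ⟨a, rfl⟩ := g.surjective x
      rw [Scheme.Opens.range_ι, ← Scheme.Hom.comp_apply, hgt]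
      exact ⟨a, rfl⟩
    rw [← IsOpenImmersion.lift_fac W.ι t hW]
    congr 1
    rw [← cancel_mono q', IsIso.inv_hom_id, ← Category.assoc, IsOpenImmersion.lift_fac, ht]

variable {S S' : Scheme.{u}} (i : S' ⟶ S) [IsIntegralHom i] [UniversallyInjective i] [Surjective i]

/-- Base change along a universal homeomorphism is fully faithful into étale schemes. -/
theorem bijective_pullback_map (X Y : Over S) [Etale X.hom] :
    Function.Bijective (fun φ : Y ⟶ X ↦ (Over.pullback i).map φ) := by
  let p : pullback Y.hom i ⟶ Y.left := pullback.fst Y.hom i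
  have : IsIntegralHom p := MorphismProperty.pullback_fst _ _ inferInstance
  have : UniversallyInjective p :=
    MorphismProperty.pullback_fst (P := @UniversallyInjective) _ _ inferInstance
  have : Surjective p := MorphismProperty.pullback_fst (P := @Surjective) _ _ inferInstance
  let q : pullback X.hom Y.hom ⟶ Y.left := pullback.snd X.hom Y.hom
  have key : ∀ ψ : (Over.pullback i).obj Y ⟶ (Over.pullback i).obj X,
      ∃! φ : Y ⟶ X, (Over.pullback i).map φ = ψ := by
    intro ψ
    let a : pullback Y.hom i ⟶ X.left := ψ.left ≫ pullback.fst X.hom i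
    have ha : a ≫ X.hom = p ≫ Y.hom := by
      have h1 : ψ.left ≫ pullback.snd X.hom i = pullback.snd Y.hom i := Over.w ψ
      simp only [a, p, Category.assoc, pullback.condition]
      rw [← Category.assoc, h1]
    obtain ⟨t, ⟨ht1, ht2⟩, huniq⟩ :=
      existsUnique_section q p (pullback.lift a p ha) (pullback.lift_snd _ _ _)
    have hw : (t ≫ pullback.fst X.hom Y.hom) ≫ X.hom = Y.hom := by
      rw [Category.assoc, pullback.condition, ← Category.assoc, ht1, Category.id_comp]
    refine ⟨Over.homMk (t ≫ pullback.fst X.hom Y.hom) hw, ?_, ?_⟩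
    · ext
      apply pullback.hom_ext
      · refine (pullback.lift_fst _ _ _).trans ?_
        change p ≫ t ≫ pullback.fst X.hom Y.hom = a
        rw [← Category.assoc, ht2, pullback.lift_fst]
      · exact (pullback.lift_snd _ _ _).trans (Over.w ψ).symm
    · intro φ hφ
      have hpa : p ≫ φ.left = a := by
        change _ = ψ.left ≫ _
        rw [← hφ]
        exact (pullback.lift_fst _ _ _).symm
      have := huniq (pullback.lift φ.left (𝟙 _) (by rw [Over.w φ, Category.id_comp]))
        ⟨pullback.lift_snd _ _ _, by
          apply pullback.hom_ext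
          · rw [Category.assoc, pullback.lift_fst, pullback.lift_fst, hpa]
          · rw [Category.assoc, pullback.lift_snd, pullback.lift_snd, Category.comp_id]⟩
      ext
      change φ.left = t ≫ pullback.fst X.hom Y.hom
      rw [← this, pullback.lift_fst]
  constructor
  · intro φ φ' h
    exact (key ((Over.pullback i).map φ')).unique h rfl
  · intro ψ
    exact ⟨_, (key ψ).exists.choose_spec⟩

end Groth.Agent.TopInvHomeo
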